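import Groth.Agent.Lib.ProjSub.Quot
import Groth.Agent.Lib.ProjMor.Frame
import Groth.Agent.Lib.ProjMor.Pieces
import Mathlib.AlgebraicGeometry.ProjectiveSpectrum.Functor
import Mathlib.AlgebraicGeometry.Morphisms.Immersion

/-!
# Closed subschemes of `Proj` are `Proj` of quotients
-/

noncomputable section

universe u

open CategoryTheory AlgebraicGeometry TopologicalSpace Opposite HomogeneousLocalization
open scoped HomogeneousIdeal

namespace Groth.Agent.Lib.ProjSub.Closed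

variable {R A : Type u} [CommRing R] [CommRing A] [Algebra R A] {𝒜 : ℕ → Submodule R A} [GradedAlgebra 𝒜]

section Surj

variable {B : Type u} [CommRing B] [Algebra R B] {ℬ : ℕ → Submodule R B} [GradedAlgebra ℬ]
  (φ : 𝒜 →+*ᵍ ℬ) (hsurj : Function.Surjective φ)

include hsurj in
theorem exists_preimage_mem {d : ℕ} {b : B} (hb : b ∈ ℬ d) : ∃ a ∈ 𝒜 d, φ a = b := by
  classical
  obtain ⟨x, rfl⟩ := hsurj b
  refine ⟨DirectSum.decompose 𝒜 x d, SetLike.coe_mem _, ?_⟩
  rw [← DirectSum.decompose_of_mem_same ℬ hb]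
  exact GradedRingHom.map_directSumDecompose 𝒜 ℬ φ

include hsurj in
theorem awayMap_surjective {i : ℕ} {s : A} (hs : s ∈ 𝒜 i) : Function.Surjective (Away.map φ s) := by
  intro z
  obtain ⟨d, b, hb, rfl⟩ := Away.mk_surjective ℬ (φ.map_mem hs) z
  obtain ⟨a, ha, rfl⟩ := exists_preimage_mem φ hsurj hb
  refine ⟨Away.mk 𝒜 hs d a ha, ?_⟩
  apply HomogeneousLocalization.val_injective
  simp

theorem appLE_awayToSection_surjective (hφ : ℬ₊ ≤ 𝒜₊.map φ) {i : ℕ} (hi : 0 < i) {s : A} (hs : s ∈ 𝒜 i)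
    (h : Function.Surjective (Away.map φ s)) :
    Function.Surjective ((Proj.map φ hφ).appLE (Proj.basicOpen 𝒜 s) (Proj.basicOpen ℬ (φ s)) le_rfl) := by
  intro z
  have hiso : IsIso (Proj.awayToSection ℬ (φ s)) :=
    (Proj.basicOpenIsoAway ℬ (φ s) (φ.map_mem hs) hi).isIso_hom
  obtain ⟨w, rfl⟩ := (ConcreteCategory.bijective_of_isIso (Proj.awayToSection ℬ (φ s))).2 z
  obtain ⟨v, rfl⟩ := h w
  refine ⟨Proj.awayToSection 𝒜 s v, ?_⟩
  exact DFunLike.congr_fun (congrArg CommRingCat.Hom.hom (Proj.awayToSection_comp_appLE φ hφ hs)) v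

include hsurj in
theorem isClosedImmersion_map (hφ : ℬ₊ ≤ 𝒜₊.map φ) : IsClosedImmersion (Proj.map φ hφ) := by
  refine IsZariskiLocalAtTarget.of_iSup_eq_top (P := @IsClosedImmersion)
    (fun p : Σ d : ℕ, {a : A // 0 < d ∧ a ∈ 𝒜 d} => Proj.basicOpen 𝒜 p.2.1) ?_ fun ⟨d, a, hd, ha⟩ => ?_
  · refine Proj.iSup_basicOpen_eq_top 𝒜 _ ?_
    rw [HomogeneousIdeal.toIdeal_irrelevant_le]
    exact fun i hi x hx => Ideal.subset_span ⟨⟨i, x, hi, hx⟩, rfl⟩
  · exact ProjMor.Pieces.isClosedImmersion_restrict _ (Proj.isAffineOpen_basicOpen 𝒜 a ha hd)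
      (Proj.isAffineOpen_basicOpen ℬ (φ a) (φ.map_mem ha) hd) (Proj.map_preimage_basicOpen φ hφ a)
      (appLE_awayToSection_surjective φ hφ hd ha (awayMap_surjective φ hsurj ha))

end Surj

variable {Z : Scheme.{u}} (i : Z ⟶ Proj 𝒜)

/-- The value on `Z` of a fraction at `f`. -/
def ev (f : A) : Away 𝒜 f →+* Γ(Z, i ⁻¹ᵁ Proj.basicOpen 𝒜 f) :=
  (Proj.awayToSection 𝒜 f ≫ i.app (Proj.basicOpen 𝒜 f)).hom

/-- `a / f^d` vanishes on `Z`, for every `f ∈ s`. -/
def Van (s : Finset A) (hs1 : ∀ f ∈ s, f ∈ 𝒜 1) (d : ℕ) (a : A) : Prop :=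
  ∀ f (hf : f ∈ s) (ha : a ∈ 𝒜 (d • 1)), ev i f (Away.mk 𝒜 (hs1 f hf) d a ha) = 0

/-- The homogeneous elements vanishing on `Z`. -/
def vanSet (s : Finset A) (hs1 : ∀ f ∈ s, f ∈ 𝒜 1) : Set A := {a | ∃ d, a ∈ 𝒜 d ∧ Van i s hs1 d a}

/-- The ideal of `Z`. -/
def idealOf (s : Finset A) (hs1 : ∀ f ∈ s, f ∈ 𝒜 1) : Ideal A := Ideal.span (vanSet i s hs1)

variable {s : Finset A} {hs1 : ∀ f ∈ s, f ∈ 𝒜 1}

theorem isHomogeneous_idealOf : (idealOf i s hs1).IsHomogeneous 𝒜 :=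
  Ideal.homogeneous_span _ _ fun _ ⟨d, hd, _⟩ => ⟨d, hd⟩

theorem van_zero (d : ℕ) : Van i s hs1 d 0 := fun f hf ha => by
  have e : Away.mk 𝒜 (hs1 f hf) d 0 ha = 0 := by
    apply HomogeneousLocalization.val_injective
    rw [Away.val_mk, HomogeneousLocalization.val_zero, Localization.mk_zero]
  rw [e, map_zero]

theorem van_add {d : ℕ} {a b : A} (ha : a ∈ 𝒜 d) (hb : b ∈ 𝒜 d) (h : Van i s hs1 d a) (h' : Van i s hs1 d b) :
    Van i s hs1 d (a + b) := fun f hf hab => by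
  have ha' : a ∈ 𝒜 (d • 1) := by simpa using ha
  have hb' : b ∈ 𝒜 (d • 1) := by simpa using hb
  have e : Away.mk 𝒜 (hs1 f hf) d (a + b) hab = Away.mk 𝒜 (hs1 f hf) d a ha' + Away.mk 𝒜 (hs1 f hf) d b hb' := by
    apply HomogeneousLocalization.val_injective
    rw [HomogeneousLocalization.val_add, Away.val_mk, Away.val_mk, Away.val_mk, Localization.add_mk_self]
  rw [e, map_add, h f hf ha', h' f hf hb', add_zero]

theorem van_mul {d e : ℕ} {a c : A} (hc : c ∈ 𝒜 e) (ha : a ∈ 𝒜 d) (h : Van i s hs1 d a) :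
    Van i s hs1 (e + d) (c * a) := fun f hf hca => by
  have ha' : a ∈ 𝒜 (d • 1) := by simpa using ha
  have hc' : c ∈ 𝒜 (e • 1) := by simpa using hc
  have e' : Away.mk 𝒜 (hs1 f hf) (e + d) (c * a) hca = Away.mk 𝒜 (hs1 f hf) e c hc' * Away.mk 𝒜 (hs1 f hf) d a ha' := by
    apply HomogeneousLocalization.val_injective
    rw [HomogeneousLocalization.val_mul, Away.val_mk, Away.val_mk, Away.val_mk, Localization.mk_mul]
    exact congrArg (Localization.mk _) (Subtype.ext (pow_add f e d))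
  rw [e', map_mul, h f hf ha', mul_zero]

/-- The homogeneous elements of the ideal are those vanishing on `Z`. -/
theorem van_of_mem {d : ℕ} {x : A} (hx : x ∈ idealOf i s hs1) (hxd : x ∈ 𝒜 d) : Van i s hs1 d x := by
  classical
  suffices h : ∀ y ∈ idealOf i s hs1, ∀ n, Van i s hs1 n (DirectSum.decompose 𝒜 y n : A) by
    have := h x hx d
    rwa [DirectSum.decompose_of_mem_same 𝒜 hxd] at this
  intro y hy
  induction hy using Submodule.span_induction with
  | mem z hz =>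
    obtain ⟨k, hk, hz⟩ := hz
    intro n
    by_cases h : k = n
    · subst h
      rwa [DirectSum.decompose_of_mem_same 𝒜 hk]
    · rw [DirectSum.decompose_of_mem_ne 𝒜 hk h]
      exact van_zero i n
  | zero => intro n; simpa using van_zero i n
  | add p q _ _ hp hq =>
    intro n
    rw [DirectSum.decompose_add, DirectSum.add_apply, Submodule.coe_add]
    exact van_add i (SetLike.coe_mem _) (SetLike.coe_mem _) (hp n) (hq n)
  | smul r p _ hp =>
    intro n
    rw [smul_eq_mul]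
    induction r using DirectSum.Decomposition.inductionOn 𝒜 with
    | zero => simpa using van_zero i n
    | @homogeneous e c =>
      by_cases hen : e ≤ n
      · rw [DirectSum.coe_decompose_mul_of_left_mem_of_le 𝒜 c.2 hen]
        have := van_mul i c.2 (SetLike.coe_mem _) (hp (n - e))
        rwa [Nat.add_sub_cancel' hen] at this
      · rw [DirectSum.coe_decompose_mul_of_left_mem_of_not_le 𝒜 c.2 hen]
        exact van_zero i n
    | add a b ha hb =>
      rw [add_mul, DirectSum.decompose_add, DirectSum.add_apply, Submodule.coe_add]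
      exact van_add i (SetLike.coe_mem _) (SetLike.coe_mem _) ha hb

theorem mem_idealOf {d : ℕ} {x : A} (hxd : x ∈ 𝒜 d) (h : Van i s hs1 d x) : x ∈ idealOf i s hs1 :=
  Ideal.subset_span ⟨d, hxd, h⟩

/-- Vanishing at one `f` is killed by a power of `f`. -/
theorem exists_pow_mul_mem [IsClosedImmersion i]
    (hcov : ∀ x : ProjectiveSpectrum 𝒜, ∃ c : 𝒜 1, (c : A) ∉ x.asHomogeneousIdeal)
    {f : A} (hf : f ∈ s) {d : ℕ} {a : A} (ha : a ∈ 𝒜 (d • 1))
    (h : ev i f (Away.mk 𝒜 (hs1 f hf) d a ha) = 0) : ∃ N : ℕ, f ^ N * a ∈ idealOf i s hs1 := by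
  classical
  have hf1 := hs1 f hf
  have key : ∀ g : s, ∃ N : ℕ, ∀ M, N ≤ M → ∀ hm : f ^ M * a ∈ 𝒜 ((M + d) • 1),
      ev i (g : A) (Away.mk 𝒜 (hs1 g g.2) (M + d) (f ^ M * a) hm) = 0 := fun ⟨g, hg⟩ => by
    let gg : 𝒜 1 := ⟨g, hs1 g hg⟩
    let ff : 𝒜 1 := ⟨f, hf1⟩
    let c : Γ(Z, i ⁻¹ᵁ Proj.basicOpen 𝒜 g) := i.app _ (ProjMor.Frame.fr 𝒜 gg ff)
    let z : Γ(Z, i ⁻¹ᵁ Proj.basicOpen 𝒜 g) := ev i g (Away.mk 𝒜 (hs1 g hg) d a ha)
    have hle : (Proj 𝒜).basicOpen (ProjMor.Frame.fr 𝒜 gg ff) ≤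
        Proj.basicOpen 𝒜 g ⊓ Proj.basicOpen 𝒜 f := by
      refine le_inf ((Proj 𝒜).basicOpen_le _) ?_
      rw [← ProjMor.Sec.locus_inf_eq (ProjMor.Frame.isGen_g gg) (ProjMor.Frame.g_eq_fr_smul gg ff),
        ProjMor.Frame.locus_g hcov ff]
      exact inf_le_left
    have hz0 : z |_ (Z.basicOpen c) = 0 := by
      have hW : Z.basicOpen c ≤ i ⁻¹ᵁ (Proj.basicOpen 𝒜 g ⊓ Proj.basicOpen 𝒜 f) := by
        rw [← Scheme.preimage_basicOpen]
        exact i.preimage_mono hle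
      have e : (Proj 𝒜).presheaf.map (homOfLE (inf_le_left : Proj.basicOpen 𝒜 g ⊓ Proj.basicOpen 𝒜 f ≤ _)).op
            (Proj.awayToSection 𝒜 g (Away.mk 𝒜 (hs1 g hg) d a ha)) =
          (Proj 𝒜).presheaf.map (homOfLE (inf_le_left : Proj.basicOpen 𝒜 g ⊓ Proj.basicOpen 𝒜 f ≤ _)).op
              (ProjMor.Frame.fr 𝒜 gg ff ^ d) *
            (Proj 𝒜).presheaf.map (homOfLE (inf_le_right : Proj.basicOpen 𝒜 g ⊓ Proj.basicOpen 𝒜 f ≤ _)).op
              (Proj.awayToSection 𝒜 f (Away.mk 𝒜 hf1 d a ha)) := by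
        rw [ProjMor.Frame.fr, ← map_pow]
        refine Subtype.ext (funext fun x => HomogeneousLocalization.val_injective _ ?_)
        have e2 : (Away.mk 𝒜 gg.2 1 (ff : A) (by simp) ^ d : Away 𝒜 g) =
            Away.mk 𝒜 (hs1 g hg) d (f ^ d) (SetLike.pow_mem_graded d hf1) := by
          apply HomogeneousLocalization.val_injective
          rw [HomogeneousLocalization.val_pow, Away.val_mk, Away.val_mk, Localization.mk_pow]
          exact congrArg (Localization.mk _) (Subtype.ext (by simp [gg]))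
        rw [e2]
        change (Localization.mk a _ : Twist.Loc 𝒜 x.1) = (_ * _ : Twist.A0 𝒜 x.1).val
        rw [HomogeneousLocalization.val_mul]
        change _ = (Localization.mk (f ^ d) _ : Twist.Loc 𝒜 x.1) * Localization.mk a _
        rw [Localization.mk_mul, Localization.mk_eq_mk_iff, Localization.r_iff_exists]
        exact ⟨1, by simp; ring⟩
      have h2 := congrArg (i.app (Proj.basicOpen 𝒜 g ⊓ Proj.basicOpen 𝒜 f)) e
      rw [map_mul, ← ConcreteCategory.comp_apply, ← ConcreteCategory.comp_apply _ (i.app _),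
        ← ConcreteCategory.comp_apply _ (i.app _), i.naturality, i.naturality] at h2
      simp only [ConcreteCategory.comp_apply] at h2
      have h0 : i.app _ (Proj.awayToSection 𝒜 f (Away.mk 𝒜 hf1 d a ha)) = 0 := h
      rw [h0, map_zero, mul_zero] at h2
      have h3 := congrArg (Z.presheaf.map (homOfLE hW).op) h2
      rw [map_zero, ← ConcreteCategory.comp_apply, ← Functor.map_comp] at h3
      exact h3
    obtain ⟨N, hN⟩ := exists_pow_mul_eq_zero_of_res_basicOpen_eq_zero_of_isAffineOpen Z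
      ((Proj.isAffineOpen_basicOpen 𝒜 g (hs1 g hg) one_pos).preimage i) z c hz0
    refine ⟨N, fun M hM hm => ?_⟩
    have e : Away.mk 𝒜 (hs1 g hg) (M + d) (f ^ M * a) hm =
        Away.mk 𝒜 (hs1 g hg) 1 f (by simpa using hf1) ^ M * Away.mk 𝒜 (hs1 g hg) d a ha := by
      apply HomogeneousLocalization.val_injective
      rw [HomogeneousLocalization.val_mul, HomogeneousLocalization.val_pow, Away.val_mk, Away.val_mk, Away.val_mk,
        Localization.mk_pow, Localization.mk_mul]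
      exact congrArg (Localization.mk _) (Subtype.ext (by simp [pow_add]))
    rw [e, map_mul, map_pow]
    change c ^ M * z = 0
    rw [← Nat.sub_add_cancel hM, pow_add, mul_assoc, hN, mul_zero]
  choose N hN using key
  refine ⟨Finset.univ.sup N, mem_idealOf i ?_ fun g hg hm => hN ⟨g, hg⟩ _ (Finset.le_sup (Finset.mem_univ _)) hm⟩
  have := SetLike.mul_mem_graded (SetLike.pow_mem_graded (Finset.univ.sup N) hf1) ha
  simpa using this

/-- A surjection with kernel the forms vanishing on `Z` presents `Z`. -/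
theorem exists_iso_of_ker [IsClosedImmersion i]
    (hs : (HomogeneousIdeal.irrelevant 𝒜).toIdeal = Ideal.span (s : Set A)) (hs1 : ∀ f ∈ s, f ∈ 𝒜 1)
    {B : Type u} [CommRing B] [Algebra R B] {ℬ : ℕ → Submodule R B} [GradedAlgebra ℬ] (φ : 𝒜 →+*ᵍ ℬ)
    (hsurj : Function.Surjective φ)
    (hφ : HomogeneousIdeal.irrelevant ℬ ≤ (HomogeneousIdeal.irrelevant 𝒜).map φ)
    (hker' : ∀ (d : ℕ) (a : A), a ∈ 𝒜 d → (φ a = 0 ↔ Van i s hs1 d a)) :
    ∃ e : Z ≅ Proj ℬ, e.hom ≫ Proj.map φ hφ = i := by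
  classical
  have hcl := isClosedImmersion_map φ hsurj hφ
  have hcov : ∀ x : ProjectiveSpectrum 𝒜, ∃ c : 𝒜 1, (c : A) ∉ x.asHomogeneousIdeal := fun x => by
    by_contra hc
    push Not at hc
    refine x.not_irrelevant_le ?_
    change (HomogeneousIdeal.irrelevant 𝒜).toIdeal ≤ x.asHomogeneousIdeal.toIdeal
    rw [hs, Ideal.span_le]
    exact fun f hf => hc ⟨f, hs1 f hf⟩
  have hker : i.ker = (Proj.map φ hφ).ker := by
    refine Scheme.IdealSheafData.ext_of_iSup_eq_top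
      (fun f : s => ⟨Proj.basicOpen 𝒜 (f : A), Proj.isAffineOpen_basicOpen 𝒜 _ (hs1 f f.2) one_pos⟩) ?_
      fun ⟨f, hf⟩ => ?_
    · refine Proj.iSup_basicOpen_eq_top 𝒜 _ ?_
      rw [hs]
      exact Ideal.span_mono fun f hf => ⟨⟨f, hf⟩, rfl⟩
    rw [Scheme.Hom.ker_apply, Scheme.Hom.ker_apply]
    have hiso : IsIso (Proj.awayToSection 𝒜 f) := (Proj.basicOpenIsoAway 𝒜 f (hs1 f hf) one_pos).isIso_hom
    have hisoB : IsIso (Proj.awayToSection ℬ (φ f)) :=
      (Proj.basicOpenIsoAway ℬ (φ f) (φ.map_mem (hs1 f hf)) one_pos).isIso_hom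
    ext y
    obtain ⟨w, rfl⟩ := (ConcreteCategory.bijective_of_isIso (Proj.awayToSection 𝒜 f)).2 y
    obtain ⟨d, a, ha, rfl⟩ := Away.mk_surjective 𝒜 (hs1 f hf) w
    rw [RingHom.mem_ker, RingHom.mem_ker]
    have e : (Proj.map φ hφ).app (Proj.basicOpen 𝒜 f) (Proj.awayToSection 𝒜 f (Away.mk 𝒜 (hs1 f hf) d a ha)) =
        Proj.awayToSection (ℬ) (φ f) (Away.map φ f (Away.mk 𝒜 (hs1 f hf) d a ha)) := by
      have := DFunLike.congr_fun (congrArg CommRingCat.Hom.hom (Proj.awayToSection_comp_appLE φ hφ (hs1 f hf)))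
        (Away.mk 𝒜 (hs1 f hf) d a ha)
      rw [← Scheme.Hom.appLE_eq_app]
      exact this
    change ev i f _ = 0 ↔ (Proj.map φ hφ).app _ _ = 0
    rw [e]
    refine Iff.trans ?_ ((injective_iff_map_eq_zero' (Proj.awayToSection ℬ (φ f)).hom).1
      (ConcreteCategory.bijective_of_isIso (Proj.awayToSection ℬ (φ f))).1 _).symm
    constructor
    · intro h
      obtain ⟨N, hN⟩ := exists_pow_mul_mem i hcov hf ha h
      apply HomogeneousLocalization.val_injective
      rw [HomogeneousLocalization.val_zero, Away.map_mk, Away.val_mk,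
        ← Localization.mk_zero (1 : Submonoid.powers (φ f)), Localization.mk_eq_mk_iff, Localization.r_iff_exists]
      refine ⟨⟨φ f ^ N, N, rfl⟩, ?_⟩
      simp only [OneMemClass.coe_one, one_mul, mul_zero]
      change φ f ^ N * φ a = 0
      rw [← map_pow, ← map_mul]
      have hm : f ^ N * a ∈ 𝒜 (N + d) := by
        simpa using SetLike.mul_mem_graded (SetLike.pow_mem_graded N (hs1 f hf)) ha
      exact (hker' _ _ hm).2 (van_of_mem i hN hm)
    · intro h
      have h' := congrArg HomogeneousLocalization.val h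
      rw [HomogeneousLocalization.val_zero, Away.map_mk, Away.val_mk,
        ← Localization.mk_zero (1 : Submonoid.powers (φ f)), Localization.mk_eq_mk_iff, Localization.r_iff_exists] at h'
      obtain ⟨⟨_, N, rfl⟩, hN⟩ := h'
      simp only [OneMemClass.coe_one, one_mul, mul_zero] at hN
      change φ f ^ N * φ a = 0 at hN
      rw [← map_pow, ← map_mul] at hN
      have hm : f ^ N * a ∈ 𝒜 ((N + d) • 1) := by
        simpa using SetLike.mul_mem_graded (SetLike.pow_mem_graded N (hs1 f hf)) ha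
      have hv := (hker' (N + d) _ (by simpa using hm)).1 hN f hf hm
      have e' : Away.mk 𝒜 (hs1 f hf) (N + d) (f ^ N * a) hm = Away.mk 𝒜 (hs1 f hf) d a ha := by
        apply HomogeneousLocalization.val_injective
        rw [Away.val_mk, Away.val_mk, Localization.mk_eq_mk_iff, Localization.r_iff_exists]
        exact ⟨1, by simp [pow_add]; ring⟩
      rw [← e']
      exact hv
  have : IsIso (IsClosedImmersion.lift (Proj.map φ hφ) i hker.ge) :=
    IsClosedImmersion.isIso_lift (Proj.map φ hφ) i hker.symm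
  exact ⟨asIso (IsClosedImmersion.lift (Proj.map φ hφ) i hker.ge), IsClosedImmersion.lift_fac _ _ _⟩

/-- As `exists_iso_quot`, keeping track of the scalars. -/
theorem exists_iso_quot' [IsClosedImmersion i]
    (hs : (HomogeneousIdeal.irrelevant 𝒜).toIdeal = Ideal.span (s : Set A)) (hs1 : ∀ f ∈ s, f ∈ 𝒜 1) :
    ∃ (B : Type u) (_ : CommRing B) (_ : Algebra R B) (ℬ : ℕ → Submodule R B) (_ : GradedAlgebra ℬ)
      (φ : 𝒜 →+*ᵍ ℬ) (_ : Function.Surjective φ)
      (hφ : HomogeneousIdeal.irrelevant ℬ ≤ (HomogeneousIdeal.irrelevant 𝒜).map φ)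
      (e : Z ≅ Proj ℬ), e.hom ≫ Proj.map φ hφ = i ∧ ∀ r : R, φ (algebraMap R A r) = algebraMap R B r := by
  classical
  let J := idealOf i s hs1
  have hJ : J.IsHomogeneous 𝒜 := isHomogeneous_idealOf i
  letI := Quot.gradedAlgebra 𝒜 hJ
  let φ : 𝒜 →+*ᵍ Quot.quotDeg 𝒜 J := Quot.quotHom 𝒜 hJ
  have hsurj : Function.Surjective φ := Ideal.Quotient.mk_surjective
  have hφ : HomogeneousIdeal.irrelevant (Quot.quotDeg 𝒜 J) ≤ (HomogeneousIdeal.irrelevant 𝒜).map φ := by
    change (HomogeneousIdeal.irrelevant (Quot.quotDeg 𝒜 J)).toIdeal ≤ _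
    rw [HomogeneousIdeal.toIdeal_irrelevant_le]
    intro n hn b hb
    obtain ⟨a, ha, rfl⟩ := hb
    exact Ideal.mem_map_of_mem _ (HomogeneousIdeal.mem_irrelevant_of_mem _ hn ha)
  obtain ⟨e, he⟩ := exists_iso_of_ker i hs hs1 φ hsurj hφ fun d a ha =>
    ⟨fun h => van_of_mem i (Ideal.Quotient.eq_zero_iff_mem.1 h) ha,
      fun h => Ideal.Quotient.eq_zero_iff_mem.2 (mem_idealOf i ha h)⟩
  exact ⟨A ⧸ J, inferInstance, inferInstance, Quot.quotDeg 𝒜 J, Quot.gradedAlgebra 𝒜 hJ, φ, hsurj, hφ, e, he, fun _ => rfl⟩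

theorem exists_iso_quot [IsClosedImmersion i]
    (hs : (HomogeneousIdeal.irrelevant 𝒜).toIdeal = Ideal.span (s : Set A)) (hs1 : ∀ f ∈ s, f ∈ 𝒜 1) :
    ∃ (B : Type u) (_ : CommRing B) (_ : Algebra R B) (ℬ : ℕ → Submodule R B) (_ : GradedAlgebra ℬ)
      (φ : 𝒜 →+*ᵍ ℬ) (_ : Function.Surjective φ)
      (hφ : HomogeneousIdeal.irrelevant ℬ ≤ (HomogeneousIdeal.irrelevant 𝒜).map φ)
      (e : Z ≅ Proj ℬ), e.hom ≫ Proj.map φ hφ = i := by
  obtain ⟨B, h1, h2, ℬ, h3, φ, h4, h5, e, h6, -⟩ := exists_iso_quot' i hs hs1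
  exact ⟨B, h1, h2, ℬ, h3, φ, h4, h5, e, h6⟩

end Groth.Agent.Lib.ProjSub.Closed
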