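import Groth.Agent.Lib.ProjSub.Closed
import Mathlib.AlgebraicGeometry.ProjectiveSpectrum.Proper

/-!
# `Proj.map` over the degree-zero rings
-/

noncomputable section

universe u

open CategoryTheory AlgebraicGeometry TopologicalSpace HomogeneousLocalization
open scoped HomogeneousIdeal

namespace Groth.Agent.Lib.ProjSub.MapZero

variable {R A B : Type u} [CommRing R] [CommRing A] [Algebra R A] [CommRing B] [Algebra R B]
  {𝒜 : ℕ → Submodule R A} [GradedAlgebra 𝒜] {ℬ : ℕ → Submodule R B} [GradedAlgebra ℬ]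

/-- The map on degree-zero rings. -/
def zeroHom (φ : 𝒜 →+*ᵍ ℬ) : 𝒜 0 →+* ℬ 0 where
  toFun a := ⟨φ a, φ.map_mem a.2⟩
  map_one' := Subtype.ext (map_one φ)
  map_mul' a b := Subtype.ext (map_mul φ (a : A) (b : A))
  map_zero' := Subtype.ext (map_zero φ)
  map_add' a b := Subtype.ext (map_add φ (a : A) (b : A))

theorem map_toSpecZero (φ : 𝒜 →+*ᵍ ℬ) (hφ : ℬ₊ ≤ 𝒜₊.map φ) :
    Proj.map φ hφ ≫ Proj.toSpecZero 𝒜 = Proj.toSpecZero ℬ ≫ Spec.map (CommRingCat.ofHom (zeroHom φ)) := by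
  have hcov : ⨆ p : Σ d : ℕ, {a : A // 0 < d ∧ a ∈ 𝒜 d}, Proj.basicOpen ℬ (φ p.2.1) = ⊤ := by
    refine Proj.iSup_basicOpen_eq_top ℬ _ (le_trans (show (ℬ₊).toIdeal ≤ (𝒜₊.map φ).toIdeal from hφ) ?_)
    refine Ideal.map_le_of_le_comap ((HomogeneousIdeal.toIdeal_irrelevant_le _).2 fun i hi x hx => ?_)
    exact Ideal.subset_span ⟨⟨i, x, hi, hx⟩, rfl⟩
  let 𝒱 : (Proj ℬ).OpenCover := .mkOfCovers (Σ d : ℕ, {a : A // 0 < d ∧ a ∈ 𝒜 d})
    (fun p => Spec (.of (Away ℬ (φ p.2.1))))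
    (fun p => Proj.awayι ℬ (φ p.2.1) (φ.map_mem p.2.2.2) p.2.2.1)
    (fun x => by
      obtain ⟨p, hp⟩ := Opens.mem_iSup.1 (hcov.ge (Opens.mem_top x))
      rw [← Proj.opensRange_awayι ℬ (φ p.2.1) (φ.map_mem p.2.2.2) p.2.2.1] at hp
      exact ⟨p, hp⟩)
    (fun _ => inferInstance)
  refine Scheme.Cover.hom_ext 𝒱 _ _ fun p => ?_
  show Proj.awayι ℬ (φ p.2.1) _ p.2.2.1 ≫ _ = Proj.awayι ℬ (φ p.2.1) _ p.2.2.1 ≫ _
  rw [Proj.awayι_comp_map_assoc φ hφ p.2.2.1 _ p.2.2.2, Proj.awayι_toSpecZero, Proj.awayι_toSpecZero_assoc,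
    ← Spec.map_comp, ← Spec.map_comp]
  congr 1
  ext a
  change (Away.map φ p.2.1 (HomogeneousLocalization.mk ⟨0, a, 1, one_mem _⟩)).val = _
  rw [Away.map, HomogeneousLocalization.map_mk]
  change Localization.mk (φ (a : A)) _ = Localization.mk (φ (a : A)) _
  congr 1
  exact Subtype.ext (map_one φ)

end Groth.Agent.Lib.ProjSub.MapZero
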