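import Groth.Agent.Lib.ProjSub.MapZero
import Groth.Prelude.Def_CohB1
import Mathlib.AlgebraicGeometry.Limits
import Mathlib.RingTheory.MvPolynomial.Ideal

/-!
# Disjoint unions of projective schemes
-/

set_option autoImplicit false
noncomputable section

universe u

open CategoryTheory CategoryTheory.Limits AlgebraicGeometry TopologicalSpace
open scoped HomogeneousIdeal

namespace Groth.Agent.Lib.ProjSub.DisjointUnion

/-- A coproduct of closed immersions with disjoint images is a closed immersion. -/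
theorem isClosedImmersion_desc {X₁ X₂ P : Scheme.{u}} (a : X₁ ⟶ P) (b : X₂ ⟶ P) [IsClosedImmersion a]
    [IsClosedImmersion b] (hd : Disjoint (Set.range a) (Set.range b)) :
    IsClosedImmersion (coprod.desc a b) := by
  have hl : ∀ x, coprod.desc a b ((coprod.inl : X₁ ⟶ X₁ ⨿ X₂) x) = a x := fun x => by
    rw [← Scheme.Hom.comp_apply, coprod.inl_desc]
  have hr : ∀ x, coprod.desc a b ((coprod.inr : X₂ ⟶ X₁ ⨿ X₂) x) = b x := fun x => by
    rw [← Scheme.Hom.comp_apply, coprod.inr_desc]
  have hs : SurjectiveOnStalks (coprod.desc a b) := by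
    have key : ∀ {W : Scheme.{u}} (i : W ⟶ X₁ ⨿ X₂) (c : W ⟶ P) [IsOpenImmersion i] [IsClosedImmersion c],
        i ≫ coprod.desc a b = c → ∀ w, Function.Surjective ((coprod.desc a b).stalkMap (i w)) := by
      intro W i c _ _ h w z
      subst h
      obtain ⟨y, hy⟩ := (i ≫ coprod.desc a b).stalkMap_surjective w (i.stalkMap w z)
      refine ⟨y, (ConcreteCategory.bijective_of_isIso (i.stalkMap w)).1 ?_⟩
      rw [← hy, Scheme.Hom.stalkMap_comp]
      rfl
    refine ⟨fun z => ?_⟩
    obtain ⟨x | x, rfl⟩ := (coprodMk X₁ X₂).surjective z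
    · rw [coprodMk_inl]
      exact key coprod.inl a (coprod.inl_desc _ _) x
    · rw [coprodMk_inr]
      exact key coprod.inr b (coprod.inr_desc _ _) x
  refine { toSurjectiveOnStalks := hs, isClosedEmbedding := ?_ }
  have he : ⇑(coprod.desc a b) = Sum.elim a b ∘ (coprodMk X₁ X₂).symm := by
    funext z
    obtain ⟨x | x, rfl⟩ := (coprodMk X₁ X₂).surjective z
    · rw [Function.comp_apply, Homeomorph.symm_apply_apply, coprodMk_inl]
      exact hl x
    · rw [Function.comp_apply, Homeomorph.symm_apply_apply, coprodMk_inr]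
      exact hr x
  rw [he]
  refine (Topology.IsClosedEmbedding.of_continuous_injective_isClosedMap (a.continuous.sumElim b.continuous)
    ?_ (isClosedMap_sumElim.2 ⟨a.isClosedEmbedding.isClosedMap, b.isClosedEmbedding.isClosedMap⟩)).comp
    (coprodMk X₁ X₂).symm.isClosedEmbedding
  exact a.isClosedEmbedding.injective.sumElim b.isClosedEmbedding.injective
    fun x y h => hd.ne_of_mem ⟨x, rfl⟩ ⟨y, rfl⟩ h

variable (k : Type u) [CommRing k] {N n : ℕ} (v : Fin (N + 1) → MvPolynomial (Fin (n + 1)) k)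
  (hv : ∀ i, (v i).IsHomogeneous 1)

/-- The graded map given by linear forms. -/
def linHom : CohB1.polyGrading N k →+*ᵍ CohB1.polyGrading n k where
  toRingHom := (MvPolynomial.aeval v).toRingHom
  map_mem {i p} hp := by
    have := MvPolynomial.IsHomogeneous.aeval hp v hv
    simpa using this

variable (hs : ∀ j, MvPolynomial.X j ∈ Set.range v)

include hs in
theorem linHom_surjective : Function.Surjective (linHom k v hv) := by
  show Function.Surjective (MvPolynomial.aeval (R := k) v)
  rw [← AlgHom.range_eq_top, ← Algebra.adjoin_range_eq_range_aeval]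
  exact top_le_iff.1 (MvPolynomial.adjoin_range_X.ge.trans (Algebra.adjoin_mono (Set.range_subset_iff.2 hs)))

include hs in
theorem irrelevant_le : (CohB1.polyGrading n k)₊ ≤ (CohB1.polyGrading N k)₊.map (linHom k v hv) := by
  show ((CohB1.polyGrading n k)₊).toIdeal ≤ ((CohB1.polyGrading N k)₊.map (linHom k v hv)).toIdeal
  rw [HomogeneousIdeal.toIdeal_irrelevant_le]
  intro i hi b hb
  obtain ⟨a, ha, rfl⟩ := Closed.exists_preimage_mem (linHom k v hv) (linHom_surjective k v hv hs) hb
  exact Ideal.mem_map_of_mem _ (HomogeneousIdeal.mem_irrelevant_of_mem _ hi ha)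

theorem toSpec_map (hφ : (CohB1.polyGrading n k)₊ ≤ (CohB1.polyGrading N k)₊.map (linHom k v hv)) :
    Proj.map (linHom k v hv) hφ ≫ CohB1.ProjSpace.toSpec N k = CohB1.ProjSpace.toSpec n k := by
  refine (Category.assoc _ _ _).symm.trans ((congrArg (· ≫ _) (MapZero.map_toSpecZero (linHom k v hv) hφ)).trans
    ((Category.assoc _ _ _).trans (congrArg (_ ≫ ·) ((Spec.map_comp _ _).symm.trans ?_))))
  congr 1
  refine CommRingCat.hom_ext (RingHom.ext fun r => Subtype.ext ?_)
  exact (MvPolynomial.aeval v).commutes r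

variable (n' : ℕ)

/-- The first block of coordinates. -/
def fstVec (n : ℕ) (i : Fin (n + n' + 1 + 1)) : MvPolynomial (Fin (n + 1)) k :=
  if h : (i : ℕ) < n + 1 then MvPolynomial.X ⟨i, h⟩ else 0

/-- The second block of coordinates. -/
def sndVec (n : ℕ) (i : Fin (n + n' + 1 + 1)) : MvPolynomial (Fin (n' + 1)) k :=
  if h : n + 1 ≤ (i : ℕ) then MvPolynomial.X ⟨i - (n + 1), by omega⟩ else 0

theorem exists_embedding (k : Type u) [Field k] (n m : ℕ) :
    ∃ (L : CohB1.ProjSpace n k ⟶ CohB1.ProjSpace (n + m + 1) k)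
      (M : CohB1.ProjSpace m k ⟶ CohB1.ProjSpace (n + m + 1) k),
      IsClosedImmersion L ∧ IsClosedImmersion M ∧ Disjoint (Set.range L) (Set.range M) ∧
      L ≫ CohB1.ProjSpace.toSpec (n + m + 1) k = CohB1.ProjSpace.toSpec n k ∧
      M ≫ CohB1.ProjSpace.toSpec (n + m + 1) k = CohB1.ProjSpace.toSpec m k := by
  have hv : ∀ i, (fstVec k m n i).IsHomogeneous 1 := fun i => by
    rw [fstVec]; split_ifs
    · exact MvPolynomial.isHomogeneous_X _ _
    · exact MvPolynomial.isHomogeneous_zero _ _ _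
  have hw : ∀ i, (sndVec k m n i).IsHomogeneous 1 := fun i => by
    rw [sndVec]; split_ifs
    · exact MvPolynomial.isHomogeneous_X _ _
    · exact MvPolynomial.isHomogeneous_zero _ _ _
  have hsv : ∀ j, MvPolynomial.X j ∈ Set.range (fstVec k m n) := fun j =>
    ⟨⟨j, by omega⟩, by simp [fstVec, j.2]⟩
  have hsw : ∀ j, MvPolynomial.X j ∈ Set.range (sndVec k m n) := fun j =>
    ⟨⟨n + 1 + j, by omega⟩, by simp [sndVec]⟩
  refine ⟨Proj.map (linHom k _ hv) (irrelevant_le k _ hv hsv),
    Proj.map (linHom k _ hw) (irrelevant_le k _ hw hsw),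
    Closed.isClosedImmersion_map _ (linHom_surjective k _ hv hsv) _,
    Closed.isClosedImmersion_map _ (linHom_surjective k _ hw hsw) _, ?_, toSpec_map k _ hv _, toSpec_map k _ hw _⟩
  rw [Set.disjoint_iff_forall_ne]
  rintro _ ⟨p, rfl⟩ _ ⟨q, rfl⟩ hpq
  have hcov : (⨆ i : Fin (n + m + 1 + 1), Proj.basicOpen (CohB1.polyGrading (n + m + 1) k) (MvPolynomial.X i)) = ⊤ := by
    refine Proj.iSup_basicOpen_eq_top _ _ ((HomogeneousIdeal.toIdeal_irrelevant_le _).2 fun d hd x hx => ?_)
    have := (MvPolynomial.mem_ideal_span_X_image (s := Set.univ) (x := x)).2 fun c hc => ?_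
    · simpa [Set.image_univ] using this
    · have hc' := (hx : MvPolynomial.IsHomogeneous x d) (MvPolynomial.mem_support_iff.1 hc)
      by_contra hne
      push Not at hne
      have : c = 0 := Finsupp.ext fun i => hne i (Set.mem_univ i)
      rw [this, map_zero] at hc'
      omega
  obtain ⟨i, hi⟩ := Opens.mem_iSup.1 (hcov.ge (Opens.mem_top (Proj.map (linHom k _ hv) (irrelevant_le k _ hv hsv) p)))
  have key : ∀ {l : ℕ} (w : Fin (n + m + 1 + 1) → MvPolynomial (Fin (l + 1)) k) (hw : ∀ i, (w i).IsHomogeneous 1)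
      (hφ : (CohB1.polyGrading l k)₊ ≤ (CohB1.polyGrading (n + m + 1) k)₊.map (linHom k w hw))
      (z : Proj (CohB1.polyGrading l k)), w i = 0 →
      Proj.map (linHom k w hw) hφ z ∉ Proj.basicOpen (CohB1.polyGrading (n + m + 1) k) (MvPolynomial.X i) := by
    intro l w hw hφ z h0 hz
    have h1 : z ∈ Proj.basicOpen (CohB1.polyGrading l k) (linHom k w hw (MvPolynomial.X i)) := by
      rw [← Proj.map_preimage_basicOpen (linHom k w hw) hφ]
      exact hz
    rw [show linHom k w hw (MvPolynomial.X i) = 0 from (MvPolynomial.aeval_X w i).trans h0,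
      Proj.basicOpen_zero] at h1
    exact h1
  by_cases h : (i : ℕ) < n + 1
  · exact key _ hw _ q (by simp [sndVec, show ¬ n + 1 ≤ (i : ℕ) by omega]) (hpq ▸ hi)
  · exact key _ hv _ p (by simp [fstVec, h]) hi

end Groth.Agent.Lib.ProjSub.DisjointUnion
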