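import Groth.Agent.Lib.ProjSub.Closed
import Groth.Agent.Lib.ProjTilde.Invertible

/-!
# Forms vanishing on a closed subscheme, by sections of `O(d)`
-/

noncomputable section

universe u

open CategoryTheory AlgebraicGeometry TopologicalSpace Opposite HomogeneousLocalization

namespace Groth.Agent.Lib.ProjSub.Frames

open TensorMod TensorMod.Basic TensorMod.Free TensorMod.Dual TensorMod.Gen TensorMod.LocIso TensorMod.HomGlue
  TensorMod.Pullback Ample.GenLocus ProjTilde.Frac ProjTilde.Basic ProjMor.Sec ProjMor.Frame Closed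

variable {R A : Type u} [CommRing R] [CommRing A] [Algebra R A] {𝒜 : ℕ → Submodule R A} [GradedAlgebra 𝒜]

/-- The section `a / 1`. -/
def gn {k : ℕ} (a : 𝒜 k) : ProjUP.Γm (Twist.twist 𝒜 (k : ℤ)) := Twist.globalOf 𝒜 a

/-- `a / 1` frames `O(k)` where `a` does not vanish. -/
theorem isGen_globalOf {k : ℕ} (a : 𝒜 k) {U : (Proj 𝒜).Opens} (hU : U ≤ Proj.basicOpen 𝒜 (a : A)) :
    IsGen (Twist.twist 𝒜 (k : ℤ)) U (gl (gn a) U) := by
  intro W hW
  have hW' : W ≤ Proj.basicOpen 𝒜 ((1 : A) * (a : A)) := by rw [one_mul]; exact hW.trans hU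
  have hne : ∀ x : W, (a : A) ∉ x.1.asHomogeneousIdeal := fun x => hU (hW x.2)
  have hval : ∀ x : W, value (gl (gn a) W) x =
      Localization.mk (a : A) 1 := fun x => rfl
  constructor
  · intro r r' h
    refine Subtype.ext (funext fun x => HomogeneousLocalization.val_injective _ ?_)
    have h1 := congrArg (fun σ => value σ x) h
    simp only [rs_gl] at h1
    rw [value_smul, value_smul, hval] at h1
    have hu : IsUnit (Localization.mk (a : A) 1 : Twist.Loc 𝒜 x.1) := by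
      rw [Localization.mk_one_eq_algebraMap]
      exact IsLocalization.map_units (M := x.1.asHomogeneousIdeal.toIdeal.primeCompl) _ ⟨(a : A), hne x⟩
    exact hu.mul_left_inj.1 h1
  · intro σ
    have hn : (0 : ℤ) + ((k : ℕ) : ℤ) = (k : ℤ) + ((0 : ℕ) : ℤ) := by simp
    obtain ⟨r, hr⟩ := ofFun_surjective (mulSec (𝒜 := 𝒜) SetLike.GradedOne.one_mem a.2 hn hW'
      (twistToTilde (show Twist.sectN (𝒜 := 𝒜) (k : ℤ) (op W) from σ)))
    refine ⟨r, sec_ext fun x => ?_⟩
    simp only [rs_gl]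
    refine (value_smul _ _ x).trans ?_
    have h1 := congrArg (fun τ => val τ x) hr
    simp only [val_mulSec] at h1
    rw [hval]
    change val (ofFun r) x * _ = _
    rw [h1]
    change (Localization.mk (1 : A) _ * value σ x) * _ = value σ x
    rw [mul_right_comm, Localization.mk_mul]
    rw [show (Localization.mk ((1 : A) * (a : A)) _ : Twist.Loc 𝒜 x.1) = 1 from ?_, one_mul]
    rw [← Localization.mk_one, Localization.mk_eq_mk_iff, Localization.r_iff_exists]
    exact ⟨1, by simp⟩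

variable {Z : Scheme.{u}} (i : Z ⟶ Proj 𝒜)

theorem van_iff_pullSec {s : Finset A} {hs1 : ∀ f ∈ s, f ∈ 𝒜 1}
    (hcov : ⨆ f : s, Proj.basicOpen 𝒜 (f : A) = ⊤) {d : ℕ} (a : 𝒜 d) :
    Van i s hs1 d a ↔
      ProjUP.pullSec i (Twist.twist 𝒜 (d : ℤ)) (gn a) = 0 := by
  let σ : Γ(Twist.twist 𝒜 (d : ℤ), ⊤) := gn a
  let P := (pb i).obj (Twist.twist 𝒜 (d : ℤ))
  have key : ∀ (f : A) (hf : f ∈ s) (ha : (a : A) ∈ 𝒜 (d • 1)), ∃ e : Γ(P, i ⁻¹ᵁ Proj.basicOpen 𝒜 f),
      IsGen P _ e ∧ gl (ProjUP.pullSec i (Twist.twist 𝒜 (d : ℤ)) σ) (i ⁻¹ᵁ Proj.basicOpen 𝒜 f) =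
        ev i f (Away.mk 𝒜 (hs1 f hf) d a ha) • e := fun f hf ha => by
    let fd : 𝒜 d := ⟨f ^ d, by simpa using SetLike.pow_mem_graded d (hs1 f hf)⟩
    have hU : Proj.basicOpen 𝒜 f ≤ Proj.basicOpen 𝒜 (fd : A) := fun x hx h =>
      hx (x.isPrime.mem_of_pow_mem d h)
    refine ⟨_, isGen_unitSec i (isGen_globalOf fd hU), ?_⟩
    have h1 : gl σ (Proj.basicOpen 𝒜 f) = Proj.awayToSection 𝒜 f (Away.mk 𝒜 (hs1 f hf) d a ha) •
        gl (gn fd) (Proj.basicOpen 𝒜 f) := by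
      refine sec_ext fun x => Eq.symm ?_
      refine (value_smul _ _ x).trans ?_
      change (Localization.mk (a : A) _ : Twist.Loc 𝒜 x.1) * Localization.mk (f ^ d) 1 = Localization.mk (a : A) 1
      rw [Localization.mk_mul, Localization.mk_eq_mk_iff, Localization.r_iff_exists]
      exact ⟨1, by simp [mul_comm]⟩
    rw [gl_pullSec, h1, unitSec_smul]
    rfl
  constructor
  · intro h
    refine sections_ext_cover (fun f : s => i ⁻¹ᵁ Proj.basicOpen 𝒜 (f : A)) _ (V := ⊤) ?_ fun f => ?_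
    · rw [← Scheme.Hom.preimage_iSup, hcov]
      exact le_rfl
    · obtain ⟨e, -, he⟩ := key f f.2 (by simp)
      rw [h f f.2 (by simp), zero_smul Γ(Z, i ⁻¹ᵁ Proj.basicOpen 𝒜 (f : A)) e] at he
      have h2 := congrArg (rs P (inf_le_right : ⊤ ⊓ i ⁻¹ᵁ Proj.basicOpen 𝒜 (f : A) ≤ _)) he
      rw [rs_gl] at h2
      exact h2.trans ((map_zero (P.presheaf.map (homOfLE _).op).hom).trans
        (map_zero (P.presheaf.map (homOfLE _).op).hom).symm)
  · intro h f hf ha
    obtain ⟨e, he, h1⟩ := key f hf ha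
    rw [show ProjUP.pullSec i (Twist.twist 𝒜 (d : ℤ)) σ = 0 from h] at h1
    refine (he _ le_rfl).1 ?_
    simp only [rs_self]
    rw [← h1]
    exact (map_zero (P.presheaf.map (homOfLE le_top).op).hom).trans
      (zero_smul Γ(Z, i ⁻¹ᵁ Proj.basicOpen 𝒜 f) e).symm

end Groth.Agent.Lib.ProjSub.Frames
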