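import Mathlib.RingTheory.GradedAlgebra.Homogeneous.Ideal
import Mathlib.RingTheory.GradedAlgebra.RingHom
import Mathlib.RingTheory.Ideal.Quotient.Operations

/-!
# The grading on a quotient by a homogeneous ideal
-/

noncomputable section

universe u

open DirectSum

namespace Groth.Agent.Lib.ProjSub.Quot

variable {R A : Type u} [CommRing R] [CommRing A] [Algebra R A] (𝒜 : ℕ → Submodule R A) [GradedAlgebra 𝒜]
  (J : Ideal A)

/-- The grading of `A ⧸ J`. -/
def quotDeg (d : ℕ) : Submodule R (A ⧸ J) := Submodule.map (Ideal.Quotient.mkₐ R J).toLinearMap (𝒜 d)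

theorem mk_mem {d : ℕ} {a : A} (ha : a ∈ 𝒜 d) : Ideal.Quotient.mk J a ∈ quotDeg 𝒜 J d := ⟨a, ha, rfl⟩

instance gradedMonoid : SetLike.GradedMonoid (quotDeg 𝒜 J) where
  one_mem := ⟨1, SetLike.GradedOne.one_mem, map_one (Ideal.Quotient.mkₐ R J)⟩
  mul_mem := by
    rintro i j _ _ ⟨a, ha, rfl⟩ ⟨b, hb, rfl⟩
    exact ⟨a * b, SetLike.mul_mem_graded ha hb, map_mul (Ideal.Quotient.mkₐ R J) a b⟩

/-- The projection on each degree. -/
def proj (d : ℕ) : 𝒜 d →+ quotDeg 𝒜 J d where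
  toFun a := ⟨Ideal.Quotient.mk J (a : A), mk_mem 𝒜 J a.2⟩
  map_zero' := Subtype.ext (by simp)
  map_add' a b := Subtype.ext (by simp)

variable {J}

theorem decompose_mem_ker (hJ : J.IsHomogeneous 𝒜) (a : A) (ha : a ∈ J) :
    (DFinsupp.mapRange.addMonoidHom (proj 𝒜 J)) (decompose 𝒜 a) = 0 := by
  ext d
  rw [DFinsupp.mapRange.addMonoidHom_apply, DFinsupp.mapRange_apply]
  change Ideal.Quotient.mk J (decompose 𝒜 a d : A) = 0
  exact Ideal.Quotient.eq_zero_iff_mem.2 (hJ d ha)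

/-- The decomposition of `A ⧸ J`. -/
def dec (hJ : J.IsHomogeneous 𝒜) : A ⧸ J →+ ⨁ d, quotDeg 𝒜 J d :=
  QuotientAddGroup.lift J.toAddSubgroup
    ((DFinsupp.mapRange.addMonoidHom (proj 𝒜 J)).comp (decomposeAddEquiv 𝒜).toAddMonoidHom)
    fun a ha => decompose_mem_ker 𝒜 hJ a ha

theorem dec_mk (hJ : J.IsHomogeneous 𝒜) (a : A) :
    dec 𝒜 hJ (Ideal.Quotient.mk J a) = DFinsupp.mapRange.addMonoidHom (proj 𝒜 J) (decompose 𝒜 a) := rfl

/-- `A ⧸ J` is graded. -/
@[instance_reducible]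
def decomposition (hJ : J.IsHomogeneous 𝒜) : DirectSum.Decomposition (quotDeg 𝒜 J) :=
  DirectSum.Decomposition.ofAddHom _ (dec 𝒜 hJ)
    (by
      refine AddMonoidHom.ext fun x => ?_
      obtain ⟨a, rfl⟩ := Ideal.Quotient.mk_surjective x
      have h : (DirectSum.coeAddMonoidHom (quotDeg 𝒜 J)).comp (DFinsupp.mapRange.addMonoidHom (proj 𝒜 J)) =
          (Ideal.Quotient.mk J).toAddMonoidHom.comp (DirectSum.coeAddMonoidHom 𝒜) := by
        refine DirectSum.addHom_ext fun d b => ?_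
        change DirectSum.coeAddMonoidHom (quotDeg 𝒜 J)
          (DFinsupp.mapRange _ (fun i => map_zero (proj 𝒜 J i)) (DFinsupp.single d b)) = _
        rw [DFinsupp.mapRange_single]
        exact (DirectSum.coeAddMonoidHom_of _ _ _).trans
          (congrArg (Ideal.Quotient.mk J) (DirectSum.coeAddMonoidHom_of 𝒜 d b)).symm
      change DirectSum.coeAddMonoidHom (quotDeg 𝒜 J) (dec 𝒜 hJ (Ideal.Quotient.mk J a)) = Ideal.Quotient.mk J a
      rw [dec_mk]
      refine (DFunLike.congr_fun h (decompose 𝒜 a)).trans (congrArg (Ideal.Quotient.mk J) ?_)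
      exact (decompose 𝒜).symm_apply_apply a)
    (by
      refine DirectSum.addHom_ext fun d x => ?_
      obtain ⟨_, a, ha, rfl⟩ := x
      change dec 𝒜 hJ (DirectSum.coeAddMonoidHom _ (DirectSum.of _ d _)) = DirectSum.of _ d _
      rw [DirectSum.coeAddMonoidHom_of]
      change dec 𝒜 hJ (Ideal.Quotient.mk J a) = _
      rw [dec_mk, DirectSum.decompose_of_mem 𝒜 ha]
      change DFinsupp.mapRange _ (fun i => map_zero (proj 𝒜 J i)) (DFinsupp.single d ⟨a, ha⟩) = _
      rw [DFinsupp.mapRange_single]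
      rfl)

/-- `A ⧸ J` is a graded algebra. -/
@[instance_reducible]
def gradedAlgebra (hJ : J.IsHomogeneous 𝒜) : GradedAlgebra (quotDeg 𝒜 J) :=
  letI := decomposition 𝒜 hJ
  {}

/-- The quotient map as a graded ring map. -/
def quotHom (hJ : J.IsHomogeneous 𝒜) :
    letI := gradedAlgebra 𝒜 hJ
    GradedRingHom 𝒜 (quotDeg 𝒜 J) :=
  letI := gradedAlgebra 𝒜 hJ
  { Ideal.Quotient.mk J with map_mem := fun ha => mk_mem 𝒜 J ha }

end Groth.Agent.Lib.ProjSub.Quot
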